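import Groth.Agent.S0384
import Groth.Agent.SchImg.IdealTools
import Mathlib.AlgebraicGeometry.Morphisms.Proper

/-! # A point of several compactifications: product over the base and scheme-theoretic image -/

set_option autoImplicit false
set_option backward.isDefEq.respectTransparency false
universe u
open CategoryTheory CategoryTheory.Limits AlgebraicGeometry

namespace Groth.Agent.KbarMod

theorem exists_product {S K : Scheme.{u}} (η : K ⟶ S) {ι : Type u} (C : ι → Scheme.{u})
    (g : ∀ i, C i ⟶ S) [∀ i, IsProper (g i)] (a : ∀ i, K ⟶ C i) (ha : ∀ i, a i ≫ g i = η)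
    (s : Finset ι) :
    ∃ (P : Scheme.{u}) (q : P ⟶ S) (b : K ⟶ P), IsProper q ∧ b ≫ q = η ∧
      ∀ i ∈ s, ∃ π : P ⟶ C i, π ≫ g i = q ∧ b ≫ π = a i := by
  classical
  induction s using Finset.induction with
  | empty => exact ⟨S, 𝟙 S, η, inferInstance, Category.comp_id _, by simp⟩
  | @insert j t hj ih =>
    obtain ⟨P, q, b, hq, hb, hπ⟩ := ih
    refine ⟨pullback q (g j), pullback.fst q (g j) ≫ q,
      pullback.lift b (a j) (hb.trans (ha j).symm), inferInstance, by simp [hb], fun i hi => ?_⟩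
    rcases Finset.mem_insert.1 hi with rfl | hi
    · exact ⟨pullback.snd q (g i), pullback.condition.symm, pullback.lift_snd _ _ _⟩
    · obtain ⟨π, h1, h2⟩ := hπ i hi
      exact ⟨pullback.fst q (g j) ≫ π, by rw [Category.assoc, h1], by rw [pullback.lift_fst_assoc, h2]⟩

theorem main {S K : Scheme.{u}} [CompactSpace S] [QuasiSeparatedSpace S] [CompactSpace K]
    (η : K ⟶ S) {ι : Type u} [Finite ι] (T : ι → Scheme.{u}) (t : ∀ i, K ⟶ T i)
    (p : ∀ i, T i ⟶ S) [∀ i, IsSeparated (p i)] [∀ i, LocallyOfFiniteType (p i)]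
    [∀ i, QuasiCompact (p i)] (hp : ∀ i, t i ≫ p i = η) :
    ∃ (S' : Scheme.{u}) (s : K ⟶ S') (q : S' ⟶ S),
      IsSchemeTheoreticallyDominant s ∧ IsProper q ∧ s ≫ q = η ∧
      ∀ i, ∃ (V : S'.Opens) (v : K ⟶ (V : Scheme.{u})) (r : (V : Scheme.{u}) ⟶ T i),
        v ≫ V.ι = s ∧ IsProper r ∧ v ≫ r = t i ∧ r ≫ p i = V.ι ≫ q := by
  classical
  choose C j g hj hjq hg hfac using fun i => Groth.Agent.S0384.result (p i)
  have : Fintype ι := Fintype.ofFinite ι
  obtain ⟨P, q, b, hq, hb, hπ⟩ := exists_product η C g (fun i => t i ≫ j i)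
    (fun i => by rw [Category.assoc, hfac, hp]) Finset.univ
  refine ⟨b.image, b.toImage, b.imageι ≫ q, SchImg.isSchemeTheoreticallyDominant_toImage b,
    inferInstance, by rw [Scheme.Hom.toImage_imageι_assoc, hb], fun i => ?_⟩
  obtain ⟨π, hπg, hbπ⟩ := hπ i (Finset.mem_univ i)
  have := hj i
  have := hg i
  have : IsProper π := by
    have : IsProper (π ≫ g i) := by rw [hπg]; exact hq
    exact IsProper.of_comp π (g i)
  let h : b.image ⟶ C i := b.imageι ≫ π
  have hbh : b.toImage ≫ h = t i ≫ j i := by simp [h, hbπ]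
  let V : b.image.Opens := h ⁻¹ᵁ (j i).opensRange
  have hran : Set.range b.toImage ⊆ Set.range V.ι := by
    rintro _ ⟨x, rfl⟩
    rw [Scheme.Opens.range_ι]
    show (b.toImage ≫ h) x ∈ (j i).opensRange
    rw [hbh]
    exact ⟨t i x, rfl⟩
  let v : K ⟶ (V : Scheme.{u}) := IsOpenImmersion.lift V.ι b.toImage hran
  let r : (V : Scheme.{u}) ⟶ T i := (h ∣_ (j i).opensRange) ≫ (j i).isoOpensRange.inv
  have hrj : r ≫ j i = V.ι ≫ h := by
    simp [r, V]
  refine ⟨V, v, r, IsOpenImmersion.lift_fac _ _ _, ?_, ?_, ?_⟩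
  · have : IsProper (h ∣_ (j i).opensRange) :=
      IsZariskiLocalAtTarget.restrict (P := @IsProper) inferInstance _
    infer_instance
  · rw [← cancel_mono (j i), Category.assoc, hrj, IsOpenImmersion.lift_fac_assoc, hbh]
  · calc r ≫ p i = (r ≫ j i) ≫ g i := by rw [← hfac i, Category.assoc r (j i) (g i)]
      _ = V.ι ≫ b.imageι ≫ q := by simp [hrj, h, hπg]

end Groth.Agent.KbarMod
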